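import Cfsg.Agent.H332.Six.ReeNum
import Cfsg.Agent.H376.Six.Elim
import Cfsg.Agent.H77.E4Seven
import Cfsg.Agent.H77.E4ClsT
import Cfsg.Agent.H436.Names
import Cfsg.Agent.SmallSimple.PSLTwoPart
import Cfsg.Agent.S1059
import Cfsg.Agent.S1159

/-!
# Block 6, `q = 2 ^ m`: the exceptional groups over fields of odd order (helper332, task 2632 of helper376)

`g2` : `q = 4`, `v = 3`; `f4`, `e6`, `e7`, `e8`, `te6`, `td4`, `ree` : `False`.
-/

set_option autoImplicit false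

namespace Cfsg.Agent.H332.Six

open Cfsg Cfsg.Lie Cfsg.Agent.H376.Six

section Basic

variable {q : ℕ} {S : Type*} [Group S]

theorem q_facts (h : E2 q S) : 4 ∣ q ∧ 4 ≤ q := by
  obtain ⟨m, hm, rfl⟩ := h.pow
  have h1 : 2 ^ 2 ∣ 2 ^ m := pow_dvd_pow 2 hm
  exact ⟨h1, Nat.le_of_dvd (by positivity) h1⟩

theorem odd_facts (h : E2 q S) : ¬ 2 ∣ q ^ 3 - 1 ∧ ¬ 2 ∣ q ^ 3 + 1 ∧ ¬ 2 ∣ q ^ 4 - 1 ∧ ¬ 2 ∣ q ^ 2 + 1 ∧
    ¬ 2 ∣ q ^ 2 - 1 ∧ ¬ 2 ∣ q + 1 ∧ ¬ 2 ∣ q - 1 := by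
  obtain ⟨h4, hq⟩ := q_facts h
  have h2 : 2 ∣ q := (by norm_num : 2 ∣ 4).trans h4
  have key : ∀ n, n ≠ 0 → 2 ∣ q ^ n ∧ 0 < q ^ n := fun n hn => ⟨dvd_pow h2 hn, by positivity⟩
  obtain ⟨a2, b2⟩ := key 2 (by norm_num)
  obtain ⟨a3, b3⟩ := key 3 (by norm_num)
  obtain ⟨a4, b4⟩ := key 4 (by norm_num)
  refine ⟨?_, ?_, ?_, ?_, ?_, ?_, ?_⟩ <;> omega

/-- an element of order divisible by 8 has order 8 -/
theorem dvd_eight (h : E2 q S) {x : S} (hx : 8 ∣ orderOf x) : orderOf x ∣ 8 := by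
  obtain ⟨h1, h2, h3, h4, h5, h6, h7⟩ := odd_facts h
  have e2 : 2 ∣ orderOf x := (by norm_num : 2 ∣ 8).trans hx
  rcases h.ub x with k | k | k | k | k | k | k | k
  · exact absurd (e2.trans k) h1
  · exact absurd (e2.trans k) h2
  · exact absurd (e2.trans k) h3
  · have := hx.trans k; omega
  · have := hx.trans k; omega
  · have := hx.trans k; omega
  · have := hx.trans k; omega
  · exact k

/-- an element of order `2 c`, `c` odd -/
theorem odd_part (h : E2 q S) {x : S} {c : ℕ} (hx : orderOf x = 2 * c) (hc : c % 2 = 1) (hc1 : 1 < c) :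
    c ∣ q ^ 2 + 1 ∨ c ∣ q ^ 2 - 1 := by
  obtain ⟨h1, h2, h3, h4, h5, h6, h7⟩ := odd_facts h
  have e2 : 2 ∣ orderOf x := ⟨c, hx⟩
  have hc2 : Nat.Coprime c 2 := Nat.coprime_two_right.2 (Nat.odd_iff.2 hc)
  have hsq : q ^ 2 - 1 = (q + 1) * (q - 1) := by
    have := Nat.sq_sub_sq q 1
    rwa [one_pow] at this
  rcases h.ub x with k | k | k | k | k | k | k | k
  · exact absurd (e2.trans k) h1
  · exact absurd (e2.trans k) h2
  · exact absurd (e2.trans k) h3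
  · rw [hx] at k
    exact Or.inl (Nat.dvd_of_mul_dvd_mul_left (by norm_num) k)
  · rw [hx] at k
    exact Or.inr (Nat.dvd_of_mul_dvd_mul_left (by norm_num) k)
  · rw [hx, show 4 * (q + 1) = 2 * (2 * (q + 1)) by ring] at k
    have k1 := hc2.dvd_of_dvd_mul_left (Nat.dvd_of_mul_dvd_mul_left (by norm_num) k)
    right
    rw [hsq]
    exact k1.mul_right _
  · rw [hx, show 4 * (q - 1) = 2 * (2 * (q - 1)) by ring] at k
    have k1 := hc2.dvd_of_dvd_mul_left (Nat.dvd_of_mul_dvd_mul_left (by norm_num) k)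
    right
    rw [hsq]
    exact k1.mul_left _
  · exfalso
    rw [hx] at k
    have k1 : c ∣ 2 ^ 2 := Nat.dvd_of_mul_dvd_mul_left (by norm_num : 0 < 2) k
    have k2 := (Nat.Coprime.pow_right 2 hc2).eq_one_of_dvd k1
    omega

/-- **no element of order `8 w`, `w > 1`** -/
theorem kill (h : E2 q S) {N d : ℕ} (hd : Nat.Coprime 8 d) (hd0 : 0 < d) (h8 : 8 ∣ N) (hN : 8 * d < N) {x : S}
    (hx : N ∣ orderOf x * d) : False := by
  have h1 : 8 ∣ orderOf x := hd.dvd_of_dvd_mul_right (h8.trans hx)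
  have h2 := dvd_eight h h1
  have h3 : N ∣ 8 * d := hx.trans (Nat.mul_dvd_mul_right h2 d)
  exact absurd (Nat.le_of_dvd (by positivity) h3) (by omega)

theorem eight_dvd_sq {v : ℕ} (ho : Odd v) : 8 ∣ v ^ 2 - 1 := by
  have := Nat.eight_dvd_sq_sub_one_of_odd ho
  exact this

theorem sq_sub_dvd (v : ℕ) : v ^ 2 - 1 ∣ v ^ 4 - 1 := by
  have := Nat.sub_dvd_pow_sub_pow (v ^ 2) 1 2
  rwa [one_pow, ← pow_mul] at this

end Basic

section Rows

variable {q : ℕ} {F : Type*} [Field F] [Fintype F]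

theorem card_ge (ho : Odd (Fintype.card F)) : 3 ≤ Fintype.card F := by
  have h1 : 1 < Fintype.card F := Fintype.one_lt_card
  rw [Nat.odd_iff] at ho
  omega

theorem f4_of {S : Type*} [Group S] (ho : Odd (Fintype.card F)) (h : E2 q S) (e : S ≃* ↥(chevF4.group F)) : False := by
  obtain ⟨x, hx, hx'⟩ := Cfsg.Agent.H77.E4Tor.tor_F4 F
  rw [Nat.card_eq_fintype_card, ← e.symm.orderOf_eq x] at hx hx'
  have h3 := card_ge ho
  have h8 := dvd_eight h ((eight_dvd_sq ho).trans hx)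
  have h4 := Nat.le_of_dvd (by norm_num) (hx'.trans h8)
  nlinarith

theorem f4 (ho : Odd (Fintype.card F)) (h : E2 q ↥(chevF4.group F)) : False := f4_of ho h (MulEquiv.refl _)

theorem big_E {v : ℕ} (h3 : 3 ≤ v) (ho : Odd v) {w : ℕ} (hw : 1 ≤ w) : 8 ∣ (v ^ 4 - 1) * w ∧ 8 * 3 < (v ^ 4 - 1) * w := by
  have h4 : 3 ^ 4 ≤ v ^ 4 := Nat.pow_le_pow_left h3 4
  refine ⟨((eight_dvd_sq ho).trans (sq_sub_dvd v)).mul_right w, ?_⟩
  calc 8 * 3 < (v ^ 4 - 1) * 1 := by omega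
    _ ≤ (v ^ 4 - 1) * w := Nat.mul_le_mul_left _ hw

theorem e6_of {S : Type*} [Group S] (ho : Odd (Fintype.card F)) (h : E2 q S) (e : S ≃* ↥(chevE6.group F)) : False := by
  obtain ⟨x, hx⟩ := Cfsg.Agent.H77.E4Tor.tor_E6 F
  rw [Nat.card_eq_fintype_card, ← e.symm.orderOf_eq x] at hx
  obtain ⟨h1, h2⟩ := big_E (card_ge ho) ho (w := Fintype.card F ^ 2 - Fintype.card F + 1) (by omega)
  exact kill h (by norm_num) (by norm_num) h1 h2 hx

theorem e6 (ho : Odd (Fintype.card F)) (h : E2 q ↥(chevE6.group F)) : False := e6_of ho h (MulEquiv.refl _)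

theorem e7_of {S : Type*} [Group S] (ho : Odd (Fintype.card F)) (h : E2 q S) (e : S ≃* ↥(chevE7.group F)) : False := by
  obtain ⟨x, hx⟩ := Cfsg.Agent.H77.E4Seven.tor_E7 F
  rw [Nat.card_eq_fintype_card, ← e.symm.orderOf_eq x] at hx
  obtain ⟨h1, h2⟩ := big_E (card_ge ho) ho (w := Fintype.card F ^ 2 - Fintype.card F + 1) (by omega)
  exact kill h (by norm_num) (by norm_num) h1 h2 hx

theorem e7 (ho : Odd (Fintype.card F)) (h : E2 q ↥(chevE7.group F)) : False := e7_of ho h (MulEquiv.refl _)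

theorem e8_of {S : Type*} [Group S] (ho : Odd (Fintype.card F)) (h : E2 q S) (e : S ≃* ↥(chevE8.group F)) : False := by
  obtain ⟨x, hx⟩ := Cfsg.Agent.H77.E4Tor.tor_E8 F
  rw [Nat.card_eq_fintype_card, ← e.symm.orderOf_eq x] at hx
  have h3 := card_ge ho
  have h4 : 3 ^ 8 ≤ Fintype.card F ^ 8 := Nat.pow_le_pow_left h3 8
  have h5 : Fintype.card F ^ 2 - 1 ∣ Fintype.card F ^ 8 - 1 := by
    have := Nat.sub_dvd_pow_sub_pow (Fintype.card F ^ 2) 1 4
    rwa [one_pow, ← pow_mul] at this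
  exact kill h (N := Fintype.card F ^ 8 - 1) (d := 1) (by norm_num) (by norm_num) ((eight_dvd_sq ho).trans h5)
    (by omega) (by rwa [mul_one])

theorem e8 (ho : Odd (Fintype.card F)) (h : E2 q ↥(chevE8.group F)) : False := e8_of ho h (MulEquiv.refl _)

theorem te6_of {S : Type*} [Group S] {v : ℕ} (hv : IsPrimePow v) (hF : Fintype.card F = v ^ 2) (ho : Odd v)
    (h : E2 q S) (e : S ≃* ↥(twistedE6 F v)) : False := by
  obtain ⟨x, hx⟩ := Cfsg.Agent.H77.E4Tor.tor_2E6 hv hF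
  rw [← e.symm.orderOf_eq x] at hx
  have h3 : 3 ≤ v := by
    have h1 := hv.one_lt
    rw [Nat.odd_iff] at ho
    omega
  obtain ⟨h1, h2⟩ := big_E h3 ho (w := v ^ 2 + v + 1) (by omega)
  exact kill h (by norm_num) (by norm_num) h1 h2 hx

theorem td4_of {S : Type*} [Group S] {v : ℕ} (hv : IsPrimePow v) (hF : Fintype.card F = v ^ 3) (ho : Odd v)
    (h : E2 q S) (e : S ≃* ↥(twistedD4 F v)) : False := by
  obtain ⟨x, hx⟩ := Cfsg.Agent.H77.E4ClsT.tor_D3 hv hF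
  rw [← e.symm.orderOf_eq x] at hx
  have h3 : 3 ≤ v := by
    have h1 := hv.one_lt
    rw [Nat.odd_iff] at ho
    omega
  have h4 : 3 ^ 3 ≤ v ^ 3 := Nat.pow_le_pow_left h3 3
  have h5 : v ^ 2 - 1 ∣ (v ^ 3 - 1) * (v + 1) := by
    have h6 : v ^ 2 - 1 = (v - 1) * (v + 1) := by
      have := Nat.sq_sub_sq v 1
      rw [one_pow] at this
      rw [this, mul_comm]
    rw [h6]
    refine Nat.mul_dvd_mul_right ?_ _
    have := Nat.sub_dvd_pow_sub_pow v 1 3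
    rwa [one_pow] at this
  exact kill h (N := (v ^ 3 - 1) * (v + 1)) (d := 1) (by norm_num) (by norm_num) ((eight_dvd_sq ho).trans h5)
    (by
      calc 8 * 1 < 26 * 1 := by norm_num
        _ ≤ (v ^ 3 - 1) * (v + 1) := Nat.mul_le_mul (by omega) (by omega)) (by rwa [mul_one])

end Rows

section Named

universe u

open Cfsg.Agent.OrdDiv Cfsg.Agent.H436

variable {q v : ℕ} {S : Type u} [Group S]

theorem te6 (ho : Odd v) (hS : IsNamed (.te6 v) S) (h : E2 q S) : False := by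
  obtain ⟨F, _, _, hF, ⟨e⟩⟩ := hS.real
  exact te6_of hS.cond hF ho h e

theorem td4 (ho : Odd v) (hS : IsNamed (.td4 v) S) (h : E2 q S) : False := by
  obtain ⟨F, _, _, hF, ⟨e⟩⟩ := hS.real
  exact td4_of hS.cond hF ho h e

end Named

end Cfsg.Agent.H332.Six
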