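import Cfsg.Agent.H332.Six.Exc

/-!
# Block 6, `q = 2 ^ m`: `G₂(v)` and `²G₂(v)` (helper332, task 2632 of helper376)
-/

set_option autoImplicit false

namespace Cfsg.Agent.H332.Six

open Cfsg Cfsg.Lie Cfsg.Agent.H376.Six

universe u

variable {q : ℕ}

theorem ap_cop_am (h2 : 2 ≤ q) : Nat.Coprime (ap q) (am q) := by
  apply Nat.Coprime.symm
  rw [Nat.coprime_iff_gcd_eq_one] at *
  by_contra hcon
  obtain ⟨r, hr, hd⟩ := Nat.exists_prime_and_dvd hcon
  have h3 : r ∣ am q := hd.trans (Nat.gcd_dvd_left _ _)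
  have h4 : r ∣ ap q := hd.trans (Nat.gcd_dvd_right _ _)
  have h5 := h3.trans (am_dvd_cube h2)
  have h6 := h4.trans (ap_dvd_cube h2)
  have h7 : 0 < q ^ 3 := by positivity
  have h8 : r ∣ 2 := by
    have := Nat.dvd_sub h5 h6
    rwa [show q ^ 3 + 1 - (q ^ 3 - 1) = 2 by omega] at this
  exact (ap_ne h2 hr h4).1 ((Nat.prime_dvd_prime_iff_eq hr Nat.prime_two).1 h8)

theorem cop_of_prime {n m : ℕ} (h : ∀ r : ℕ, r.Prime → r ∣ n → ¬ r ∣ m) : Nat.Coprime n m := by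
  rw [Nat.coprime_iff_gcd_eq_one]
  by_contra hcon
  obtain ⟨r, hr, hd⟩ := Nat.exists_prime_and_dvd hcon
  exact h r hr (hd.trans (Nat.gcd_dvd_left _ _)) (hd.trans (Nat.gcd_dvd_right _ _))

theorem dvd_ninety_one {n : ℕ} (h2 : ∀ r : ℕ, r.Prime → r ∣ n → r ≠ 2 ∧ r ≠ 3 ∧ ¬ r ∣ q) (h : n ∣ 4245696) :
    n ∣ 91 := by
  have h1 : Nat.Coprime n 46656 := cop_of_prime fun r hr hrn hr6 => by
    obtain ⟨k2, k3, -⟩ := h2 r hr hrn
    rw [show 46656 = 6 ^ 6 by norm_num] at hr6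
    have h3 := hr.dvd_of_dvd_pow hr6
    rw [show 6 = 2 * 3 by norm_num] at h3
    rcases hr.dvd_mul.1 h3 with h4 | h4
    · exact k2 ((Nat.prime_dvd_prime_iff_eq hr Nat.prime_two).1 h4)
    · exact k3 ((Nat.prime_dvd_prime_iff_eq hr Nat.prime_three).1 h4)
  rw [show 4245696 = 46656 * 91 by norm_num] at h
  exact h1.dvd_of_dvd_mul_left h

/-- **`G₂(v)`** : only `G₂(3)`, `q = 4` -/
theorem g2_of {S : Type*} [Group S] {F : Type*} [Field F] [Fintype F] (ho : Odd (Fintype.card F)) (h : E2 q S)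
    (e : S ≃* ↥(chevG2.group F)) : q = 4 ∧ Fintype.card F = 3 := by
  obtain ⟨x, hx⟩ := Cfsg.Agent.H77.E4Tor.tor_G2 F
  rw [Nat.card_eq_fintype_card, ← e.symm.orderOf_eq x] at hx
  have h3 := card_ge ho
  have h8 := dvd_eight h ((eight_dvd_sq ho).trans hx)
  have h4 := Nat.le_of_dvd (by norm_num) (hx.trans h8)
  have hF : Fintype.card F = 3 := by
    by_contra hcon
    have h5 : 4 ^ 2 ≤ Fintype.card F ^ 2 := Nat.pow_le_pow_left (by omega) 2
    omega
  refine ⟨?_, hF⟩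
  have hcard : Nat.card S = 4245696 := by
    rw [Nat.card_congr e.toEquiv, Cfsg.Agent.S1059.result hF]; norm_num
  have hfin : Finite S := Nat.finite_of_card_ne_zero (by rw [hcard]; norm_num)
  have hAL : ¬ AL2 S := by
    rintro (⟨⟨e⟩⟩ | ⟨K, _, _, hK, ⟨e⟩⟩)
    · have h1 := Nat.card_congr e.toEquiv
      rw [hcard] at h1
      have h2 : 2 * Nat.card (alternatingGroup (Fin 7)) = 5040 := by
        rw [two_mul_nat_card_alternatingGroup]
        simp [Nat.card_eq_fintype_card, Fintype.card_perm, Nat.factorial]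
      omega
    · have h1 := Nat.card_congr e.toEquiv
      rw [hcard] at h1
      have h2 := Cfsg.Agent.SmallSimple.PSLTwoPart.card_psl_two_odd hK
      rw [← h1] at h2
      rcases Nat.lt_or_ge (Fintype.card K) 205 with h3 | h3
      · have h4 : Fintype.card K * (Fintype.card K ^ 2 - 1) ≤ 204 * (204 ^ 2 - 1) :=
          Nat.mul_le_mul (by omega) (Nat.sub_le_sub_right (Nat.pow_le_pow_left (by omega) 2) 1)
        omega
      · have h4 : 205 * (205 ^ 2 - 1) ≤ Fintype.card K * (Fintype.card K ^ 2 - 1) :=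
          Nat.mul_le_mul h3 (Nat.sub_le_sub_right (Nat.pow_le_pow_left h3 2) 1)
        omega
  obtain ⟨hd4, hq4⟩ := q_facts h
  rcases h.main with hA | ⟨⟨a, ha⟩, ⟨b, hb⟩, -⟩
  · exact absurd hA hAL
  · have h1 : ap q ∣ 91 := dvd_ninety_one (fun r hr hd => ap_ne (by omega) hr hd)
      (by rw [← ha, ← hcard]; exact orderOf_dvd_natCard a)
    have h2 : am q ∣ 91 := dvd_ninety_one (fun r hr hd => am_ne (by omega) hr hd)
      (by rw [← hb, ← hcard]; exact orderOf_dvd_natCard b)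
    have h5 := (ap_cop_am (q := q) (by omega)).mul_dvd_of_dvd_of_dvd h1 h2
    have h6 := Nat.le_of_dvd (by norm_num) h5
    have hq3 : ¬ 3 ∣ q := by
      obtain ⟨m, hm, rfl⟩ := h.pow
      intro h3
      exact absurd (Nat.prime_three.dvd_of_dvd_pow h3) (by norm_num)
    have h7 := ap_mul_am (q := q) (by omega) hq3
    by_contra hcon
    have h9 : 5 ^ 4 ≤ q ^ 4 := Nat.pow_le_pow_left (by omega) 4
    omega

theorem g2 {F : Type*} [Field F] [Fintype F] (ho : Odd (Fintype.card F)) (h : E2 q ↥(chevG2.group F)) :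
    q = 4 ∧ Fintype.card F = 3 := g2_of ho h (MulEquiv.refl _)

/-- **`²G₂(v)`** -/
theorem ree {S : Type u} [Group S] (h : E2 q S) (hS : Cfsg.Lie.IsoRee S) : False := by
  obtain ⟨K, _, _, k, hk, hK, ⟨e⟩⟩ := hS
  have h1 : ∀ d, (∃ g : S, orderOf g = d) ↔ _ := fun d => by
    refine Iff.trans ?_ (Cfsg.Agent.S1159.result hk hK d)
    constructor
    · rintro ⟨g, hg⟩
      exact ⟨e g, by rw [MulEquiv.orderOf_eq, hg]⟩
    · rintro ⟨g, hg⟩
      exact ⟨e.symm g, by rw [MulEquiv.orderOf_eq, hg]⟩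
  obtain ⟨v, hv⟩ : ∃ v, v = 3 ^ (2 * k + 1) := ⟨_, rfl⟩
  obtain ⟨t, ht⟩ : ∃ t, t = 3 ^ (k + 1) := ⟨_, rfl⟩
  rw [← hv, ← ht] at h1
  have htv : t * t = 3 * v := by
    rw [ht, hv, ← pow_add, ← pow_succ']
    congr 1
    omega
  have ht9 : 9 ≤ t := by
    rw [ht]
    calc 9 = 3 ^ 2 := by norm_num
      _ ≤ 3 ^ (k + 1) := Nat.pow_le_pow_right (by norm_num) (by omega)
  have hv27 : 27 ≤ v := by nlinarith
  have htv' : 3 * t ≤ v := by nlinarith
  have hv8 : v % 8 = 3 := by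
    rw [hv, pow_succ, pow_mul, Nat.mul_mod, Nat.pow_mod]
    norm_num
  have ht2 : t % 2 = 1 := by
    rw [ht, Nat.pow_mod]
    norm_num
  obtain ⟨hd4, hq4⟩ := q_facts h
  -- `ap`, `am`
  have hab : (∃ x : S, orderOf x = ap q) ∧ (∃ x : S, orderOf x = am q) := by
    rcases h.eight with h2 | h2
    · exact h2
    · exfalso
      rcases (h1 8).1 h2 with k1 | k1 | k1 | k1 | k1 | k1 <;> omega
  -- an element of order `q ^ 2 ± q + 1`
  have hqq : q ≤ q ^ 2 := Nat.le_self_pow (by norm_num) q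
  have hbig : ∃ n : ℕ, q ^ 2 - q + 1 ≤ n ∧ ∃ x : S, orderOf x = n := by
    by_cases h3 : 3 ∣ q - 1
    · have h4 := (am_spec (q := q) (by omega)).1
      rw [(Nat.Prime.coprime_iff_not_dvd Nat.prime_three).2 (show ¬ 3 ∣ q + 1 by omega), mul_one] at h4
      exact ⟨am q, h4.ge, hab.2⟩
    · have h4 := (ap_spec (q := q) (by omega)).1
      rw [(Nat.Prime.coprime_iff_not_dvd Nat.prime_three).2 h3, mul_one] at h4
      exact ⟨ap q, by omega, hab.1⟩
  obtain ⟨n, hn, hn'⟩ := hbig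
  have hq12 : 4 * q ≤ q ^ 2 := by nlinarith
  have hnv : n ≤ v + t + 1 := by
    rcases (h1 n).1 hn' with k1 | k1 | k1 | k1 | k1 | k1
    · have := Nat.le_of_dvd (by norm_num) k1; omega
    · have := Nat.le_of_dvd (by norm_num) k1; omega
    · have := Nat.le_of_dvd (by omega) k1; omega
    · have := Nat.le_of_dvd (by omega) k1; omega
    · have := Nat.le_of_dvd (by omega) k1; omega
    · have := Nat.le_of_dvd (by omega) k1; omega
  -- `v - 1`, `(v + 1) / 2`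
  obtain ⟨x, hx⟩ := (h1 (v - 1)).2 (by simp)
  obtain ⟨y, hy⟩ := (h1 ((v + 1) / 2)).2 (by simp)
  obtain ⟨c, hc⟩ : ∃ c, v = 8 * c + 3 := ⟨v / 8, by omega⟩
  have hx2 := odd_part h (x := x) (c := 4 * c + 1) (by rw [hx]; omega) (by omega) (by omega)
  have hy2 := odd_part h (x := y) (c := 2 * c + 1) (by rw [hy]; omega) (by omega) (by omega)
  have hq2 : q ^ 2 % 2 = 0 := by
    obtain ⟨j, rfl⟩ := hd4
    rw [show (4 * j) ^ 2 = 2 * (8 * j ^ 2) by ring]
    exact Nat.mul_mod_right 2 _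
  have e1 : ∃ (a e : ℤ), (e = 1 ∨ e = -1) ∧ a * ((v : ℤ) - 1) = 2 * ((q : ℤ) ^ 2 + e) := by
    rcases hx2 with ⟨a, ha⟩ | ⟨a, ha⟩
    · refine ⟨a, 1, Or.inl rfl, ?_⟩
      have h5 : (q : ℤ) ^ 2 + 1 = (4 * c + 1) * a := by exact_mod_cast ha
      rw [h5, hc]; push_cast; ring
    · refine ⟨a, -1, Or.inr rfl, ?_⟩
      have h5 : (q : ℤ) ^ 2 - 1 = (4 * c + 1) * a := by
        have h6 : q ^ 2 = (4 * c + 1) * a + 1 := by omega
        have h7 : (q : ℤ) ^ 2 = (4 * c + 1) * a + 1 := by exact_mod_cast h6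
        linarith
      have h6 : (q : ℤ) ^ 2 + -1 = (4 * c + 1) * a := by linarith
      rw [h6, hc]; push_cast; ring
  have e2 : ∃ (b f : ℤ), (f = 1 ∨ f = -1) ∧ b * ((v : ℤ) + 1) = 4 * ((q : ℤ) ^ 2 + f) ∧ b % 2 = 1 := by
    rcases hy2 with ⟨a, ha⟩ | ⟨a, ha⟩
    · have ha2 : a % 2 = 1 := by
        have h5 : (q ^ 2 + 1) % 2 = 1 := by omega
        rw [ha, Nat.mul_mod] at h5
        rcases Nat.mod_two_eq_zero_or_one a with h6 | h6
        · rw [h6] at h5; simp at h5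
        · exact h6
      refine ⟨a, 1, Or.inl rfl, ?_, by omega⟩
      have h5 : (q : ℤ) ^ 2 + 1 = (2 * c + 1) * a := by exact_mod_cast ha
      rw [h5, hc]; push_cast; ring
    · have h6 : q ^ 2 = (2 * c + 1) * a + 1 := by omega
      have ha2 : a % 2 = 1 := by
        have h5 : (q ^ 2 + 1) % 2 = 1 := by omega
        have h7 : ((2 * c + 1) * a) % 2 = 1 := by omega
        rw [Nat.mul_mod] at h7
        rcases Nat.mod_two_eq_zero_or_one a with h6 | h6
        · rw [h6] at h7; simp at h7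
        · exact h6
      refine ⟨a, -1, Or.inr rfl, ?_, by omega⟩
      have h7 : (q : ℤ) ^ 2 = (2 * c + 1) * a + 1 := by exact_mod_cast h6
      have h6 : (q : ℤ) ^ 2 + -1 = (2 * c + 1) * a := by linarith
      rw [h6, hc]; push_cast; ring
  obtain ⟨a, ea, hea, h5⟩ := e1
  obtain ⟨b, eb, heb, h6, h7⟩ := e2
  refine ree_num (q := q) (v := v) (t := t) (by exact_mod_cast hq4) (by exact_mod_cast htv) (by exact_mod_cast ht9)
    ?_ h5 h6 hea heb h7
  have h8 : q ^ 2 + 1 ≤ v + t + 1 + q := by omega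
  have h9 : (q : ℤ) ^ 2 + 1 ≤ v + t + 1 + q := by exact_mod_cast h8
  linarith

end Cfsg.Agent.H332.Six
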